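import Cfsg.Agent.ClassicalGeometry.SympAutOddA
import Cfsg.Agent.ClassicalGeometry.SympAutExists
import Cfsg.Agent.ClassicalGeometry.SympGamma
import Cfsg.Agent.H499.Rad2.Cox

/-!
# Explicit semisimilitudes of the symplectic space of dimension four over `F₃` (helper499, order 2 rows)

* `SM` : matrices `M` with `Mᵀ J M = l J`; `SM.psi` the automorphism of `PSp 2 (ZMod 3)`;
* `mul_psi`, `psi_eq_one`, `psi_conj`;
* `exists_frame` : hyperbolic frames come from `Sp`.
-/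

set_option autoImplicit false

namespace Cfsg.Agent.H499.Rad2.Sp

open Subgroup Matrix Cfsg Cfsg.Agent.H459.Rad Cfsg.Agent.H483.Rad23
open Cfsg.Agent.ClassicalGeometry.SympBasic Cfsg.Agent.ClassicalGeometry.SympAutSemi
  Cfsg.Agent.ClassicalGeometry.SympGamma

instance fact_three : Fact (Nat.Prime 3) := ⟨by norm_num⟩

abbrev F := ZMod 3
abbrev Ix := Fin 2 ⊕ Fin 2
abbrev V := Ix → F
abbrev Mt := Matrix Ix Ix F
abbrev K := PSp 2 F

/-- a matrix with its multiplier -/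
structure SM where
  M : Mt
  l : F
  hl : l * l = 1
  h : Mᵀ * J (Fin 2) F * M = l • J (Fin 2) F

theorem JJ : J (Fin 2) F * J (Fin 2) F = -1 := J_squared _ _

theorem left_inv_aux (s : SM) : (s.l • -(J (Fin 2) F * s.Mᵀ * J (Fin 2) F)) * s.M = 1 := by
  rw [Matrix.smul_mul, neg_mul, mul_assoc, mul_assoc, ← mul_assoc s.Mᵀ, s.h, Matrix.mul_smul, JJ, smul_neg, smul_neg,
    smul_neg, neg_neg, smul_smul, s.hl, one_smul]

theorem right_inv_aux (s : SM) : s.M * (s.l • -(J (Fin 2) F * s.Mᵀ * J (Fin 2) F)) = 1 :=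
  mul_eq_one_comm.1 (left_inv_aux s)

/-- the permutation of the vectors -/
def SM.perm (s : SM) : Equiv.Perm V where
  toFun v := s.M *ᵥ v
  invFun v := (s.l • -(J (Fin 2) F * s.Mᵀ * J (Fin 2) F)) *ᵥ v
  left_inv v := by
    show _ *ᵥ (s.M *ᵥ v) = v
    rw [mulVec_mulVec, left_inv_aux, one_mulVec]
  right_inv v := by
    show s.M *ᵥ (_ *ᵥ v) = v
    rw [mulVec_mulVec, right_inv_aux, one_mulVec]

theorem SM.perm_apply (s : SM) (v : V) : s.perm v = s.M *ᵥ v := rfl

theorem sympForm_mul (s : SM) (u v : V) : sympForm 2 F (s.M *ᵥ u) (s.M *ᵥ v) = s.l * sympForm 2 F u v := by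
  rw [sympForm_def, sympForm_def]
  have h1 : (s.M *ᵥ u) ⬝ᵥ (J (Fin 2) F *ᵥ (s.M *ᵥ v)) = u ⬝ᵥ ((s.Mᵀ * J (Fin 2) F * s.M) *ᵥ v) := by
    rw [dotProduct_comm, dotProduct_mulVec, ← mulVec_transpose, dotProduct_comm, mulVec_mulVec, mulVec_mulVec]
  rw [h1, s.h, smul_mulVec, dotProduct_smul, smul_eq_mul]

theorem SM.semi (s : SM) : IsSemi s.perm (RingEquiv.refl F) s.l := by
  refine ⟨fun u v => ?_, fun a v => ?_, fun u v => ?_⟩
  · rw [s.perm_apply, s.perm_apply, s.perm_apply, mulVec_add]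
  · rw [s.perm_apply, s.perm_apply, mulVec_smul]
    rfl
  · rw [s.perm_apply, s.perm_apply, sympForm_mul]
    rfl

theorem SM.l_ne (s : SM) : s.l ≠ 0 := by
  intro h0
  have := s.hl
  rw [h0, mul_zero] at this
  exact zero_ne_one this

/-- the semisimilitude -/
def SM.sim (s : SM) : semiSim 2 F := ⟨s.perm, RingEquiv.refl F, s.l, s.l_ne, s.semi⟩

/-- the automorphism of `PSp` -/
noncomputable def SM.psi (s : SM) : MulAut K := Psi 2 F s.sim

theorem scal_mem (a : Fˣ) : scal 2 F a ∈ semiSim 2 F :=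
  ⟨RingEquiv.refl F, _, mul_ne_zero a.ne_zero a.ne_zero, isSemi_scal a⟩

theorem Psi_eq_of_neg {g h : semiSim 2 F} (hgh : ∀ v, g.1 v = -h.1 v) : Psi 2 F g = Psi 2 F h := by
  have h1 : g = ⟨scal 2 F (-1), scal_mem _⟩ * h := by
    apply Subtype.ext
    ext1 v
    show g.1 v = scal 2 F (-1) (h.1 v)
    rw [hgh, scal_apply, Units.val_neg, Units.val_one, neg_one_smul]
  rw [h1, map_mul, Psi_scal, one_mul]

theorem Psi_eq_of {g h : semiSim 2 F} (hgh : ∀ v, g.1 v = h.1 v) : Psi 2 F g = Psi 2 F h := by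
  have h1 : g = h := by
    apply Subtype.ext
    ext1 v
    exact hgh v
  rw [h1]

theorem mul_psi (s t r : SM) (h : r.M = s.M * t.M ∨ r.M = -(s.M * t.M)) : s.psi * t.psi = r.psi := by
  unfold SM.psi
  rw [← map_mul]
  have h1 : ∀ v, (s.sim * t.sim).1 v = (s.M * t.M) *ᵥ v := by
    intro v
    show s.M *ᵥ (t.M *ᵥ v) = _
    rw [mulVec_mulVec]
  have h2 : ∀ v, r.sim.1 v = r.M *ᵥ v := fun v => rfl
  rcases h with h | h
  · refine Psi_eq_of fun v => ?_
    rw [h1, h2, h]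
  · refine Psi_eq_of_neg fun v => ?_
    rw [h1, h2, h, neg_mulVec, neg_neg]

theorem psi_eq_one (s : SM) (h : s.M = 1 ∨ s.M = -1) : s.psi = 1 := by
  have h2 : ∀ v, s.sim.1 v = s.M *ᵥ v := fun v => rfl
  have h3 : ∀ v, (1 : semiSim 2 F).1 v = v := fun v => rfl
  unfold SM.psi
  rw [← map_one (Psi 2 F)]
  rcases h with h | h
  · refine Psi_eq_of fun v => ?_
    rw [h2, h3, h, one_mulVec]
  · refine Psi_eq_of_neg fun v => ?_
    rw [h2, h3, h, neg_mulVec, one_mulVec]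

/-- the element of `Sp` -/
def SM.toSp (s : SM) (h : s.l = 1) : symplecticGroup (Fin 2) F :=
  ⟨s.M, by
    rw [mem_symplecticGroup_iff]
    intro u v
    rw [sympForm_mul, h, one_mul]⟩

theorem psi_conj (s : SM) (h : s.l = 1) : s.psi = MulAut.conj (QuotientGroup.mk (s.toSp h) : K) := by
  ext x
  induction x using QuotientGroup.induction_on with
  | H A =>
    show Psi 2 F s.sim (QuotientGroup.mk A) = _
    rw [Psi_mk, MulAut.conj_apply]
    have : conjHom 2 F s.sim A = s.toSp h * A * (s.toSp h)⁻¹ := by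
      apply rho_injective
      rw [rho_conjHom, map_mul, map_mul, map_inv]
      have h1 : rho 2 F (s.toSp h) = s.sim.1 := by
        ext1 v
        rfl
      rw [h1]
    rw [this]
    rfl

/-- **hyperbolic frames** -/
theorem exists_frame {e1 e2 f1 f2 : V} (h1 : sympForm 2 F e1 e2 = 0) (h2 : sympForm 2 F f1 f2 = 0)
    (h3 : sympForm 2 F f1 e1 = 1) (h4 : sympForm 2 F f2 e2 = 1) (h5 : sympForm 2 F f1 e2 = 0)
    (h6 : sympForm 2 F f2 e1 = 0) : ∃ s : SM, s.l = 1 ∧ s.M *ᵥ Pi.single (Sum.inl 0) 1 = e1 ∧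
      s.M *ᵥ Pi.single (Sum.inl 1) 1 = e2 ∧ s.M *ᵥ Pi.single (Sum.inr 0) 1 = f1 ∧
      s.M *ᵥ Pi.single (Sum.inr 1) 1 = f2 := by
  let b : Ix → V := Sum.elim ![e1, e2] ![f1, f2]
  let P : Mt := Matrix.of fun i j => b j i
  have hP : ∀ j, P *ᵥ Pi.single j 1 = b j := by
    intro j
    rw [mulVec_single_one]
    rfl
  have h7 : sympForm 2 F e2 e1 = 0 := by rw [sympForm_swap, h1, neg_zero]
  have h8 : sympForm 2 F f2 f1 = 0 := by rw [sympForm_swap, h2, neg_zero]
  have h9 : sympForm 2 F e1 f1 = -1 := by rw [sympForm_swap, h3]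
  have h10 : sympForm 2 F e2 f2 = -1 := by rw [sympForm_swap, h4]
  have h11 : sympForm 2 F e2 f1 = 0 := by rw [sympForm_swap, h5, neg_zero]
  have h12 : sympForm 2 F e1 f2 = 0 := by rw [sympForm_swap, h6, neg_zero]
  have hgram : ∀ i j : Ix, sympForm 2 F (b i) (b j) = sympForm 2 F (Pi.single i 1) (Pi.single j 1) := by
    have e : ∀ i j : Ix, sympForm 2 F (Pi.single i (1 : F)) (Pi.single j 1) = - (J (Fin 2) F j i) := by decide
    intro i j
    rw [e]
    fin_cases i <;> fin_cases j <;> simp [b, J, h1, h2, h3, h4, h5, h6, h7, h8, h9, h10, h11, h12, sympForm_self]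
  have hB : (sympBilin 2 F).compl₁₂ P.mulVecLin P.mulVecLin = sympBilin 2 F := by
    refine LinearMap.ext_basis (Pi.basisFun F Ix) (Pi.basisFun F Ix) fun i j => ?_
    rw [LinearMap.compl₁₂_apply, Pi.basisFun_apply, Pi.basisFun_apply, mulVecLin_apply, mulVecLin_apply, hP, hP,
      sympBilin_apply, sympBilin_apply, hgram]
  have hPm : P ∈ symplecticGroup (Fin 2) F := by
    rw [mem_symplecticGroup_iff]
    intro u v
    have := congrArg (fun f => f u v) hB
    simpa using this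
  have hPJ : Pᵀ * J (Fin 2) F * P = (1 : F) • J (Fin 2) F := by
    rw [one_smul]
    have := SymplecticGroup.transpose_mem hPm
    have h := (SymplecticGroup.mem_iff.1 this)
    rwa [transpose_transpose] at h
  exact ⟨⟨P, 1, one_mul 1, hPJ⟩, rfl, hP _, hP _, hP _, hP _⟩

end Cfsg.Agent.H499.Rad2.Sp
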