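import Cfsg.Agent.H499.Rad2.UEig
import Cfsg.Agent.CpQuot.Quo
import Cfsg.Agent.SignalizersComponents.SLQuasisimple
import Cfsg.Agent.OddHalf.D6.QThree.U43Tw

/-!
# `SL₂(q²)` in `SU₄(q)`: the Levi complement of a totally isotropic line (helper499)

`Frm a b` : hyperbolic frames `a₀, a₁ | b₀, b₁`. `phi` : `SL₂(F) → SU₄(q)`. `false_of_frame` : a radical automorphism of
`U₄(3)` multiplying the vectors of a frame by scalars acts on `⟨a₀, a₁⟩` as a scalar.
-/

set_option autoImplicit false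
set_option linter.unusedSectionVars false

namespace Cfsg.Agent.H499.Rad2.U

open Matrix Subgroup Module Cfsg Cfsg.Agent.H459.Rad
open Cfsg.Agent.LieClassical.HermBasic Cfsg.Agent.LieClassical.HermSiegel
open Cfsg.Agent.ClassicalGeometry.PSUAutBasic Cfsg.Agent.ClassicalGeometry.HermOrtho
open Cfsg.Agent.ClassicalGeometry.PSUAutCount (toAut toAut_pr gm gm_mul gm_one gm_mul_inv gm_inv_mul semiConj
  act_semiConj herm_semi herm_gm gm_inv_mulVec gm_mulVec_inv herm_map gm_inj eq_of_toAut_eq)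
open Cfsg.Agent.UGT.U2.FOne.PSUSemi (S S_def S_add S_smul S_herm)

variable {F : Type} [Field F] [Fintype F] {q : ℕ}

abbrev I4 := Fin 2 ⊕ Fin 2

/-- hyperbolic frames -/
structure Frm (q : ℕ) (a b : Fin 2 → (Fin 4 → F)) : Prop where
  aa : ∀ i j, hermForm 4 F q (a i) (a j) = 0
  bb : ∀ i j, hermForm 4 F q (b i) (b j) = 0
  ab : ∀ i j, hermForm 4 F q (a i) (b j) = if i = j then 1 else 0

section

variable {a b : Fin 2 → (Fin 4 → F)}

theorem Frm.ba (hF : Fintype.card F = q ^ 2) (h : Frm q a b) (i j : Fin 2) :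
    hermForm 4 F q (b i) (a j) = if i = j then 1 else 0 := by
  rw [herm_swap hF, h.ab]
  by_cases hij : i = j
  · rw [if_pos hij, if_pos hij.symm, one_pow]
  · rw [if_neg hij, if_neg (Ne.symm hij), zero_pow (q_pos hF).ne']

/-- the columns -/
def col (a b : Fin 2 → (Fin 4 → F)) : I4 → (Fin 4 → F) := Sum.elim a b

/-- the matrix with the columns `a₀, a₁, b₀, b₁` -/
def E (a b : Fin 2 → (Fin 4 → F)) : Matrix (Fin 4) I4 F := Matrix.of fun k j => col a b j k

/-- the coordinates -/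
def E' (q : ℕ) (a b : Fin 2 → (Fin 4 → F)) : Matrix I4 (Fin 4) F := Matrix.of fun j k => col a b j.swap k ^ q

theorem E_single (j : I4) : E a b *ᵥ Pi.single j 1 = col a b j := by
  rw [mulVec_single_one]
  rfl

theorem E'_apply (v : Fin 4 → F) (j : I4) : (E' q a b *ᵥ v) j = hermForm 4 F q v (col a b j.swap) := by
  rw [herm_def]
  show ∑ k, col a b j.swap k ^ q * v k = _
  exact Finset.sum_congr rfl fun k _ => mul_comm _ _

theorem E'E (hF : Fintype.card F = q ^ 2) (h : Frm q a b) : E' q a b * E a b = 1 := by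
  ext j m
  have h1 : (E' q a b * E a b) j m = (E' q a b *ᵥ (E a b *ᵥ Pi.single m 1)) j := by
    rw [mulVec_mulVec, mulVec_single_one]
    rfl
  rw [h1, E_single, E'_apply, Matrix.one_apply]
  rcases j with j | j <;> rcases m with m | m
  · show hermForm 4 F q (a m) (b j) = _
    rw [h.ab]
    simp [eq_comm]
  · show hermForm 4 F q (b m) (b j) = _
    rw [h.bb]
    simp
  · show hermForm 4 F q (a m) (a j) = _
    rw [h.aa]
    simp
  · show hermForm 4 F q (b m) (a j) = _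
    rw [h.ba hF]
    simp [eq_comm]

theorem EE' (hF : Fintype.card F = q ^ 2) (h : Frm q a b) : E a b * E' q a b = 1 :=
  (mul_eq_one_comm_of_card_eq I4 (Fin 4) F (by simp)).1 (E'E hF h)

theorem exists_coord (hF : Fintype.card F = q ^ 2) (h : Frm q a b) (v : Fin 4 → F) : ∃ x, v = E a b *ᵥ x :=
  ⟨E' q a b *ᵥ v, by rw [mulVec_mulVec, EE' hF h, one_mulVec]⟩

theorem E'E_vec (hF : Fintype.card F = q ^ 2) (h : Frm q a b) (x : I4 → F) : E' q a b *ᵥ (E a b *ᵥ x) = x := by
  rw [mulVec_mulVec, E'E hF h, one_mulVec]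

theorem herm_E (hF : Fintype.card F = q ^ 2) (h : Frm q a b) (x y : I4 → F) :
    hermForm 4 F q (E a b *ᵥ x) (E a b *ᵥ y) = ∑ j : I4, x j * y j.swap ^ q := by
  have h1 : E a b *ᵥ x = ∑ j : I4, x j • col a b j := by
    funext k
    rw [Finset.sum_apply]
    show ∑ j, col a b j k * x j = _
    exact Finset.sum_congr rfl fun j _ => by rw [Pi.smul_apply, smul_eq_mul, mul_comm]
  rw [h1, herm_sum_left]
  refine Finset.sum_congr rfl fun j _ => ?_
  rw [herm_smul_left, herm_swap hF]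
  have h2 := E'_apply (q := q) (a := a) (b := b) (E a b *ᵥ y) j.swap
  rw [E'E_vec hF h, Sum.swap_swap] at h2
  rw [← h2]

/-- the dual matrix -/
def dl (q : ℕ) (g : Matrix (Fin 2) (Fin 2) F) : Matrix (Fin 2) (Fin 2) F :=
  !![g 1 1 ^ q, -(g 1 0 ^ q); -(g 0 1 ^ q), g 0 0 ^ q]

/-- the block matrix -/
def X (q : ℕ) (g : Matrix (Fin 2) (Fin 2) F) : Matrix I4 I4 F := fromBlocks g 0 0 (dl q g)

theorem dl_mul (hF : Fintype.card F = q ^ 2) (g h : Matrix (Fin 2) (Fin 2) F) : dl q (g * h) = dl q g * dl q h := by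
  unfold dl
  rw [Matrix.mul_fin_two]
  simp only [Matrix.mul_apply, Fin.sum_univ_two, add_pow_q hF, mul_pow]
  ext i j
  fin_cases i <;> fin_cases j <;> simp <;> ring

theorem X_mul (hF : Fintype.card F = q ^ 2) (g h : Matrix (Fin 2) (Fin 2) F) : X q (g * h) = X q g * X q h := by
  unfold X
  rw [fromBlocks_multiply, dl_mul hF]
  simp

theorem X_one (hF : Fintype.card F = q ^ 2) : X q (1 : Matrix (Fin 2) (Fin 2) F) = 1 := by
  have h1 : dl q (1 : Matrix (Fin 2) (Fin 2) F) = 1 := by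
    unfold dl
    ext i j
    fin_cases i <;> fin_cases j <;> simp [(q_pos hF).ne']
  unfold X
  rw [h1, fromBlocks_one]

theorem X_det (hF : Fintype.card F = q ^ 2) {g : Matrix (Fin 2) (Fin 2) F} (hg : g.det = 1) : (X q g).det = 1 := by
  unfold X
  rw [det_fromBlocks_zero₂₁, hg, one_mul]
  unfold dl
  rw [det_fin_two] at hg
  rw [det_fin_two_of]
  have h1 := congrArg (fun t => t ^ q) hg
  simp only [sub_pow_q hF, mul_pow, one_pow] at h1
  linear_combination h1

theorem X_herm (hF : Fintype.card F = q ^ 2) {g : Matrix (Fin 2) (Fin 2) F} (hg : g.det = 1) (x y : I4 → F) :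
    ∑ j : I4, (X q g *ᵥ x) j * (X q g *ᵥ y) j.swap ^ q = ∑ j : I4, x j * y j.swap ^ q := by
  rw [det_fin_two] at hg
  have e0 : ∀ x : I4 → F, (X q g *ᵥ x) (Sum.inl 0) = g 0 0 * x (Sum.inl 0) + g 0 1 * x (Sum.inl 1) := by
    intro x
    simp [X, mulVec, dotProduct, Fintype.sum_sum_type, Fin.sum_univ_two]
  have e1 : ∀ x : I4 → F, (X q g *ᵥ x) (Sum.inl 1) = g 1 0 * x (Sum.inl 0) + g 1 1 * x (Sum.inl 1) := by
    intro x
    simp [X, mulVec, dotProduct, Fintype.sum_sum_type, Fin.sum_univ_two]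
  have e2 : ∀ x : I4 → F, (X q g *ᵥ x) (Sum.inr 0) = g 1 1 ^ q * x (Sum.inr 0) - g 1 0 ^ q * x (Sum.inr 1) := by
    intro x
    simp [X, dl, mulVec, dotProduct, Fintype.sum_sum_type, Fin.sum_univ_two]
    ring
  have e3 : ∀ x : I4 → F, (X q g *ᵥ x) (Sum.inr 1) = -(g 0 1 ^ q * x (Sum.inr 0)) + g 0 0 ^ q * x (Sum.inr 1) := by
    intro x
    simp [X, dl, mulVec, dotProduct, Fintype.sum_sum_type, Fin.sum_univ_two]
  simp only [Fintype.sum_sum_type, Fin.sum_univ_two, Sum.swap_inl, Sum.swap_inr, e0, e1, e2, e3, add_pow_q hF,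
    sub_pow_q hF, neg_pow_q hF, mul_pow, pow_q_pow_q hF]
  have hg' := congrArg (fun t => t ^ q) hg
  simp only [sub_pow_q hF, mul_pow, one_pow] at hg'
  linear_combination (x (Sum.inl 0) * y (Sum.inr 0) ^ q + x (Sum.inl 1) * y (Sum.inr 1) ^ q) * hg +
    (x (Sum.inr 0) * y (Sum.inl 0) ^ q + x (Sum.inr 1) * y (Sum.inl 1) ^ q) * hg'

/-- the matrix of the Levi complement -/
def LM (q : ℕ) (a b : Fin 2 → (Fin 4 → F)) (g : Matrix (Fin 2) (Fin 2) F) : Matrix (Fin 4) (Fin 4) F :=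
  E a b * X q g * E' q a b

theorem LM_det (hF : Fintype.card F = q ^ 2) (h : Frm q a b) {g : Matrix (Fin 2) (Fin 2) F} (hg : g.det = 1) :
    (LM q a b g).det = 1 := by
  unfold LM
  rw [det_conj_of_mul_eq_one (EE' hF h) (E'E hF h), X_det hF hg]

theorem LM_E (hF : Fintype.card F = q ^ 2) (h : Frm q a b) (g : Matrix (Fin 2) (Fin 2) F) (x : I4 → F) :
    LM q a b g *ᵥ (E a b *ᵥ x) = E a b *ᵥ (X q g *ᵥ x) := by
  unfold LM
  rw [← mulVec_mulVec, ← mulVec_mulVec, E'E_vec hF h]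

theorem LM_herm (hF : Fintype.card F = q ^ 2) (h : Frm q a b) {g : Matrix (Fin 2) (Fin 2) F} (hg : g.det = 1)
    (u v : Fin 4 → F) : hermForm 4 F q (LM q a b g *ᵥ u) (LM q a b g *ᵥ v) = hermForm 4 F q u v := by
  obtain ⟨x, rfl⟩ := exists_coord hF h u
  obtain ⟨y, rfl⟩ := exists_coord hF h v
  rw [LM_E hF h, LM_E hF h, herm_E hF h, herm_E hF h, X_herm hF hg]

theorem LM_mul (hF : Fintype.card F = q ^ 2) (h : Frm q a b) (g k : Matrix (Fin 2) (Fin 2) F) :
    LM q a b (g * k) = LM q a b g * LM q a b k := by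
  unfold LM
  rw [X_mul hF]
  calc E a b * (X q g * X q k) * E' q a b = E a b * X q g * (1 : Matrix I4 I4 F) * X q k * E' q a b := by
        rw [Matrix.mul_one, ← Matrix.mul_assoc]
    _ = E a b * X q g * (E' q a b * E a b) * X q k * E' q a b := by rw [E'E hF h]
    _ = _ := by simp only [Matrix.mul_assoc]

theorem LM_one (hF : Fintype.card F = q ^ 2) (h : Frm q a b) : LM q a b (1 : Matrix (Fin 2) (Fin 2) F) = 1 := by
  unfold LM
  rw [X_one hF, Matrix.mul_one, EE' hF h]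

/-- **the Levi complement** -/
def phi (hF : Fintype.card F = q ^ 2) (h : Frm q a b) : SpecialLinearGroup (Fin 2) F →* SU 4 F q where
  toFun g := ⟨⟨LM q a b (g : Matrix (Fin 2) (Fin 2) F), LM_det hF h g.det_coe⟩,
    (LieClassical.SUBasic.mem_SU_iff _).2 (LM_herm hF h g.det_coe)⟩
  map_one' := mat_injective (LM_one hF h)
  map_mul' g k := mat_injective (by
    rw [mat_mul]
    exact LM_mul hF h _ _)

theorem act_phi (hF : Fintype.card F = q ^ 2) (h : Frm q a b) (g : SpecialLinearGroup (Fin 2) F) (x : I4 → F) :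
    act (phi hF h g) (E a b *ᵥ x) = E a b *ᵥ (X q (g : Matrix (Fin 2) (Fin 2) F) *ᵥ x) := LM_E hF h _ x

theorem act_phi_a (hF : Fintype.card F = q ^ 2) (h : Frm q a b) (g : SpecialLinearGroup (Fin 2) F) (j : Fin 2) :
    act (phi hF h g) (a j) = (g : Matrix (Fin 2) (Fin 2) F) 0 j • a 0 + (g : Matrix (Fin 2) (Fin 2) F) 1 j • a 1 := by
  have h1 : a j = E a b *ᵥ Pi.single (Sum.inl j) 1 := (E_single (a := a) (b := b) (Sum.inl j)).symm
  have h0 : a 0 = E a b *ᵥ Pi.single (Sum.inl 0) 1 := (E_single (a := a) (b := b) (Sum.inl 0)).symm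
  have h2 : a 1 = E a b *ᵥ Pi.single (Sum.inl 1) 1 := (E_single (a := a) (b := b) (Sum.inl 1)).symm
  rw [h1, act_phi, h0, h2, ← mulVec_smul, ← mulVec_smul, ← mulVec_add]
  congr 1
  rw [mulVec_single_one]
  funext i
  rcases i with i | i
  · fin_cases i <;> simp [X, Matrix.col]
  · simp [X, Matrix.col]

theorem act_phi_b (hF : Fintype.card F = q ^ 2) (h : Frm q a b) (g : SpecialLinearGroup (Fin 2) F) (j : Fin 2) :
    act (phi hF h g) (b j) = dl q (g : Matrix (Fin 2) (Fin 2) F) 0 j • b 0 + dl q (g : Matrix (Fin 2) (Fin 2) F) 1 j • b 1 := by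
  have h1 : b j = E a b *ᵥ Pi.single (Sum.inr j) 1 := (E_single (a := a) (b := b) (Sum.inr j)).symm
  have h0 : b 0 = E a b *ᵥ Pi.single (Sum.inr 0) 1 := (E_single (a := a) (b := b) (Sum.inr 0)).symm
  have h2 : b 1 = E a b *ᵥ Pi.single (Sum.inr 1) 1 := (E_single (a := a) (b := b) (Sum.inr 1)).symm
  rw [h1, act_phi, h0, h2, ← mulVec_smul, ← mulVec_smul, ← mulVec_add]
  congr 1
  rw [mulVec_single_one]
  funext i
  rcases i with i | i
  · simp [X, Matrix.col]
  · fin_cases i <;> simp [X, Matrix.col]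

/-- equal elements -/
theorem ext_frame (hF : Fintype.card F = q ^ 2) (h : Frm q a b) {f g : SU 4 F q}
    (ha : ∀ i, act f (a i) = act g (a i)) (hb : ∀ i, act f (b i) = act g (b i)) : f = g := by
  have h1 : mat f * E a b = mat g * E a b := by
    ext k j
    have h2 : act f (col a b j) = act g (col a b j) := by
      rcases j with j | j
      · exact ha j
      · exact hb j
    rw [← E_single, act_def, act_def, mulVec_mulVec, mulVec_mulVec, mulVec_single_one, mulVec_single_one] at h2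
    exact congrFun h2 k
  apply mat_injective
  have h3 := congrArg (fun M => M * E' q a b) h1
  simp only [Matrix.mul_assoc, EE' hF h, Matrix.mul_one] at h3
  exact h3

theorem scal_of_pr_eq (hF : Fintype.card F = q ^ 2) {n : ℕ} (hn : 3 ≤ n) {f g : SU n F q}
    (h : pr n F q f = pr n F q g) : ∃ c : F, ∀ v, act g v = c • act f v := by
  obtain ⟨z, hz, rfl⟩ := exists_center_mul h
  obtain ⟨c, -, -, hc⟩ := exists_scalar_of_mem_center hF hn hz
  exact ⟨c, fun v => by rw [act_mul, hc, act_smul]⟩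

/-- the other frame -/
theorem Frm.swap (hF : Fintype.card F = q ^ 2) (h : Frm q a b) : Frm q ![a 0, b 1] ![b 0, a 1] := by
  refine ⟨fun i j => ?_, fun i j => ?_, fun i j => ?_⟩ <;> fin_cases i <;> fin_cases j <;>
    simp [h.aa, h.bb, h.ab, h.ba hF]

/-- upper unitriangular matrices -/
def ut (t : F) : SpecialLinearGroup (Fin 2) F := ⟨!![1, t; 0, 1], by rw [det_fin_two_of]; ring⟩

/-- the rotation -/
def rot : SpecialLinearGroup (Fin 2) F := ⟨!![0, -1; 1, 0], by rw [det_fin_two_of]; ring⟩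

theorem act_ut (hF : Fintype.card F = q ^ 2) (h : Frm q a b) (t : F) :
    act (phi hF h (ut t)) (a 0) = a 0 ∧ act (phi hF h (ut t)) (a 1) = t • a 0 + a 1 := by
  constructor
  · rw [act_phi_a]
    show (1 : F) • a 0 + (0 : F) • a 1 = a 0
    rw [one_smul, zero_smul, add_zero]
  · rw [act_phi_a]
    show t • a 0 + (1 : F) • a 1 = _
    rw [one_smul]

theorem Frm.indep (h : Frm q a b) {x y : F} (hxy : x • a 0 + y • a 1 = 0) : x = 0 ∧ y = 0 := by
  constructor
  · have h1 := congrArg (fun v => hermForm 4 F q v (b 0)) hxy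
    simp only [herm_add_left, herm_smul_left, herm_zero_left, h.ab] at h1
    simpa using h1
  · have h1 := congrArg (fun v => hermForm 4 F q v (b 1)) hxy
    simp only [herm_add_left, herm_smul_left, herm_zero_left, h.ab] at h1
    simpa using h1

/-- **A radical automorphism multiplying the vectors of a frame by scalars** -/
theorem false_of_frame (hF : Fintype.card F = q ^ 2) (h4 : 4 ≤ Nat.card F) (h : Frm q a b) {A : GU 4 F q} {ρ : F ≃+* F}
    (hRC : RC (toAut A ρ : MulAut (PSU 4 F q))) {s s' : Fin 2 → F} (ha : ∀ i, S A ρ (a i) = s i • a i)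
    (hb : ∀ i, S A ρ (b i) = s' i • b i) (t : F) : s 0 * ρ t = s 1 * t := by
  have hss : ∀ i, s i * s' i ^ q = 1 := by
    intro i
    have h1 := S_herm A ρ (a i) (b i)
    rw [ha, hb, herm_smul_left, herm_smul_right, h.ab, if_pos rfl, map_one, mul_one] at h1
    exact h1
  have hs0 : ∀ i, s i ≠ 0 := fun i h0 => by
    have := hss i
    rw [h0, zero_mul] at this
    exact zero_ne_one this
  have hss' : ∀ i, s' i * s i ^ q = 1 := by
    intro i
    have h1 := congrArg (fun t => t ^ q) (hss i)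
    simp only [mul_pow, pow_q_pow_q hF, one_pow] at h1
    rw [mul_comm]
    exact h1
  have hs0' : ∀ i, s' i ≠ 0 := fun i h0 => by
    have := hss' i
    rw [h0, zero_mul] at this
    exact zero_ne_one this
  -- the image of `phi g`
  have key : ∀ g : SpecialLinearGroup (Fin 2) F, ∃ g' : SpecialLinearGroup (Fin 2) F,
      semiConj A ρ (phi hF h g) = phi hF h g' := by
    intro g
    set M := (g : Matrix (Fin 2) (Fin 2) F) with hM
    have hdet : M 0 0 * M 1 1 - M 0 1 * M 1 0 = 1 := by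
      have := g.det_coe
      rwa [det_fin_two] at this
    have hdet' := congrArg ρ hdet
    rw [map_sub, map_mul, map_mul, map_one] at hdet'
    let M' : Matrix (Fin 2) (Fin 2) F :=
      !![ρ (M 0 0), s 0 * ρ (M 0 1) * (s 1)⁻¹; s 1 * ρ (M 1 0) * (s 0)⁻¹, ρ (M 1 1)]
    have h0 := hs0 0
    have h1 := hs0 1
    have h0' := hs0' 0
    have h1' := hs0' 1
    have hM' : M'.det = 1 := by
      rw [det_fin_two_of]
      field_simp
      linear_combination hdet'
    refine ⟨⟨M', hM'⟩, ext_frame hF h (fun j => ?_) (fun j => ?_)⟩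
    · have e1 := act_semiConj A ρ (phi hF h g) (a j)
      have e2 : act (semiConj A ρ (phi hF h g)) (S A ρ (a j)) = S A ρ (act (phi hF h g) (a j)) := e1
      rw [ha, act_smul, act_phi_a, S_add, S_smul, S_smul, ha, ha] at e2
      have e3 : act (semiConj A ρ (phi hF h g)) (a j) =
          (s j)⁻¹ • (ρ (M 0 j) • s 0 • a 0 + ρ (M 1 j) • s 1 • a 1) := by
        rw [← e2, inv_smul_smul₀ (hs0 j)]
      rw [e3]
      refine Eq.trans ?_ (act_phi_a hF h ⟨M', hM'⟩ j).symm
      show _ = M' 0 j • a 0 + M' 1 j • a 1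
      rw [smul_add, smul_smul, smul_smul, smul_smul, smul_smul]
      fin_cases j
      · show ((s 0)⁻¹ * ρ (M 0 0) * s 0) • a 0 + ((s 0)⁻¹ * ρ (M 1 0) * s 1) • a 1 =
          ρ (M 0 0) • a 0 + (s 1 * ρ (M 1 0) * (s 0)⁻¹) • a 1
        congr 2 <;> field_simp
      · show ((s 1)⁻¹ * ρ (M 0 1) * s 0) • a 0 + ((s 1)⁻¹ * ρ (M 1 1) * s 1) • a 1 =
          (s 0 * ρ (M 0 1) * (s 1)⁻¹) • a 0 + ρ (M 1 1) • a 1
        congr 2 <;> field_simp
    · have e1 := act_semiConj A ρ (phi hF h g) (b j)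
      have e2 : act (semiConj A ρ (phi hF h g)) (S A ρ (b j)) = S A ρ (act (phi hF h g) (b j)) := e1
      rw [hb, act_smul, act_phi_b, S_add, S_smul, S_smul, hb, hb] at e2
      have e3 : act (semiConj A ρ (phi hF h g)) (b j) =
          (s' j)⁻¹ • (ρ (dl q M 0 j) • s' 0 • b 0 + ρ (dl q M 1 j) • s' 1 • b 1) := by
        rw [← e2, inv_smul_smul₀ (hs0' j)]
      rw [e3]
      refine Eq.trans ?_ (act_phi_b hF h ⟨M', hM'⟩ j).symm
      show _ = dl q M' 0 j • b 0 + dl q M' 1 j • b 1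
      rw [smul_add, smul_smul, smul_smul, smul_smul, smul_smul]
      have k0 : s' 0 = (s 0 ^ q)⁻¹ := eq_inv_of_mul_eq_one_left (hss' 0)
      have k1 : s' 1 = (s 1 ^ q)⁻¹ := eq_inv_of_mul_eq_one_left (hss' 1)
      have p0 : s 0 ^ q ≠ 0 := pow_ne_zero _ h0
      have p1 : s 1 ^ q ≠ 0 := pow_ne_zero _ h1
      fin_cases j
      · show ((s' 0)⁻¹ * ρ (M 1 1 ^ q) * s' 0) • b 0 + ((s' 0)⁻¹ * ρ (-(M 0 1 ^ q)) * s' 1) • b 1 =
          (ρ (M 1 1) ^ q) • b 0 + (-((s 0 * ρ (M 0 1) * (s 1)⁻¹) ^ q)) • b 1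
        rw [map_neg, map_pow, map_pow, k0, k1, mul_pow, mul_pow, inv_pow]
        congr 2 <;> field_simp
      · show ((s' 1)⁻¹ * ρ (-(M 1 0 ^ q)) * s' 0) • b 0 + ((s' 1)⁻¹ * ρ (M 0 0 ^ q) * s' 1) • b 1 =
          (-((s 1 * ρ (M 1 0) * (s 0)⁻¹) ^ q)) • b 0 + (ρ (M 0 0) ^ q) • b 1
        rw [map_neg, map_pow, map_pow, k0, k1, mul_pow, mul_pow, inv_pow]
        congr 2 <;> field_simp
  -- the subgroup
  set M : Subgroup (PSU 4 F q) := ((pr 4 F q).comp (phi hF h)).range with hM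
  have hmem : ∀ g, pr 4 F q (phi hF h g) ∈ M := fun g => ⟨g, rfl⟩
  have hMinv : ∀ m ∈ M, toAut A ρ m ∈ M := by
    rintro _ ⟨g, rfl⟩
    obtain ⟨g', hg'⟩ := key g
    refine ⟨g', ?_⟩
    show pr 4 F q (phi hF h g') = pr 4 F q (semiConj A ρ (phi hF h g))
    rw [hg']
  have hMtop : M ≠ ⊤ := by
    intro htop
    have h1 : pr 4 F q (phi hF (h.swap hF) rot) ∈ M := by rw [htop]; exact mem_top _
    obtain ⟨g, hg⟩ := h1
    obtain ⟨c, hc⟩ := scal_of_pr_eq hF (by norm_num) (f := phi hF h g) (g := phi hF (h.swap hF) rot) hg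
    have h2 := hc (a 0)
    have h3 := act_phi_a hF (h.swap hF) rot 0
    have h4 : act (phi hF (h.swap hF) rot) (a 0) = (0 : F) • a 0 + (1 : F) • b 1 := h3
    rw [h4, act_phi_a] at h2
    have h5 := congrArg (fun v => hermForm 4 F q v (a 1)) h2
    simp only [herm_add_left, herm_smul_left, h.aa, h.ba hF] at h5
    simp at h5
  have hnt : Nontrivial M := by
    refine ⟨⟨⟨_, hmem (ut 1)⟩, 1, fun h1 => ?_⟩⟩
    have h2 : pr 4 F q (phi hF h (ut 1)) = pr 4 F q 1 := congrArg Subtype.val h1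
    obtain ⟨c, hc⟩ := scal_of_pr_eq hF (by norm_num) h2.symm
    have h3 := hc (a 0)
    have h4 := hc (a 1)
    rw [(act_ut hF h 1).1, act_one] at h3
    rw [(act_ut hF h 1).2, act_one] at h4
    have h5 := h.indep (x := 1) (y := 1 - c) (by
      rw [sub_smul, one_smul, one_smul]
      rw [one_smul] at h4
      rw [← h4]
      abel)
    exact one_ne_zero h5.1
  have hMq : IsQuasisimple M := by
    have h1 := SignalizersComponents.SLQuasisimple.isQuasisimple_two (F := F) h4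
    exact CpQuot.Quo.quasisimple h1 ((pr 4 F q).comp (phi hF h)).rangeRestrict
      ((pr 4 F q).comp (phi hF h)).rangeRestrict_surjective
  -- the fixed elements
  have hfix : pr 4 F q (semiConj A ρ (phi hF h (ut t))) = pr 4 F q (phi hF h (ut t)) :=
    hRC.eq_of_quasisimple hMtop hMinv hMq (hmem (ut t))
  obtain ⟨c, hc⟩ := scal_of_pr_eq hF (by norm_num) hfix
  have e0 : act (semiConj A ρ (phi hF h (ut t))) (S A ρ (a 0)) = S A ρ (act (phi hF h (ut t)) (a 0)) :=
    act_semiConj A ρ _ (a 0)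
  have e1 : act (semiConj A ρ (phi hF h (ut t))) (S A ρ (a 1)) = S A ρ (act (phi hF h (ut t)) (a 1)) :=
    act_semiConj A ρ _ (a 1)
  rw [(act_ut hF h t).1, ha, act_smul] at e0
  rw [(act_ut hF h t).2, S_add, S_smul, ha, ha, act_smul] at e1
  have f0 := hc (s 0 • a 0)
  have f1 := hc (s 1 • a 1)
  rw [act_smul, act_smul, (act_ut hF h t).1, e0] at f0
  rw [act_smul, act_smul, (act_ut hF h t).2, e1] at f1
  -- `c = 1`
  have g0 := h.indep (x := s 0 - c * s 0) (y := 0) (by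
    rw [sub_smul, ← smul_smul, ← f0]
    simp)
  have hc1 : c = 1 := by
    have : (1 - c) * s 0 = 0 := by linear_combination g0.1
    rcases mul_eq_zero.1 this with h6 | h6
    · linear_combination -h6
    · exact absurd h6 (hs0 0)
  rw [hc1, one_smul] at f1
  have g1 := h.indep (x := s 1 * t - ρ t * s 0) (y := 0) (by
    rw [sub_smul, ← smul_smul, ← smul_smul]
    have : s 1 • t • a 0 - ρ t • s 0 • a 0 = s 1 • (t • a 0 + a 1) - (ρ t • s 0 • a 0 + s 1 • a 1) := by
      rw [smul_add]; abel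
    rw [this, f1]
    simp)
  linear_combination -g1.1

end

end Cfsg.Agent.H499.Rad2.U
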