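import Cfsg.Agent.H499.Rad2.ULevi

/-!
# Automorphisms of order two of `U₄(q)`, `q` odd: the skew case (helper499, S3832, S4336)

`T` a semilinear isometry up to `ρ` with `T² = l ρ(l)`, `l l^q = -1`: the eigenvectors (`T v = ± l v`) are isotropic and
there is a hyperbolic frame of eigenvectors.
-/

set_option autoImplicit false
set_option linter.unusedSectionVars false

namespace Cfsg.Agent.H499.Rad2.U

open Matrix Subgroup Module Cfsg Cfsg.Agent.H459.Rad
open Cfsg.Agent.LieClassical.HermBasic Cfsg.Agent.LieClassical.HermSiegel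
open Cfsg.Agent.ClassicalGeometry.PSUAutBasic Cfsg.Agent.ClassicalGeometry.HermOrtho
open Cfsg.Agent.ClassicalGeometry.PSUAutCount (toAut)
open Cfsg.Agent.UGT.U2.FOne.PSUSemi (S S_def S_add S_smul S_herm exists_not_comb)

variable {F : Type} [Field F] [Fintype F] {q : ℕ}

/-- the skew case -/
structure Ng (q : ℕ) (T : (Fin 4 → F) → (Fin 4 → F)) (ρ : F ≃+* F) (l : F) : Prop where
  add : ∀ u v, T (u + v) = T u + T v
  smul : ∀ (a : F) v, T (a • v) = ρ a • T v
  herm : ∀ u v, hermForm 4 F q (T u) (T v) = ρ (hermForm 4 F q u v)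
  sq : ∀ v, T (T v) = (l * ρ l) • v
  norm : l * l ^ q = -1
  fix : ∀ x : F, x ^ q = x → ρ x = x
  two : (2 : F) ≠ 0

/-- a sign -/
def Sg (q : ℕ) (σ : F) : Prop := σ * σ = 1 ∧ σ ^ q = σ

theorem sg_one : Sg q (1 : F) := ⟨one_mul 1, one_pow q⟩

theorem sg_neg (hF : Fintype.card F = q ^ 2) {σ : F} (h : Sg q σ) : Sg q (-σ) :=
  ⟨by rw [neg_mul_neg, h.1], by rw [neg_pow_q hF, h.2]⟩

namespace Ng

variable {T : (Fin 4 → F) → (Fin 4 → F)} {ρ : F ≃+* F} {l : F}

theorem l_ne (h : Ng q T ρ l) : l ≠ 0 := by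
  intro h0
  have h1 := h.norm
  rw [h0, zero_mul] at h1
  exact one_ne_zero (neg_eq_zero.1 h1.symm)

theorem sub (h : Ng q T ρ l) (u v : Fin 4 → F) : T (u - v) = T u - T v := by
  have h1 : u - v = u + (-1 : F) • v := by rw [neg_one_smul, sub_eq_add_neg]
  rw [h1, h.add, h.smul, map_neg, map_one, neg_one_smul, ← sub_eq_add_neg]

/-- the eigenvectors span -/
theorem comb (hF : Fintype.card F = q ^ 2) (h : Ng q T ρ l) (v : Fin 4 → F) :
    ∃ (σ τ : F) (x y : Fin 4 → F), Sg q σ ∧ Sg q τ ∧ T x = (σ * l) • x ∧ T y = (τ * l) • y ∧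
      v = (2 : F)⁻¹ • x + (2 : F)⁻¹ • y := by
  have hl := h.l_ne
  have hrl : ρ l ≠ 0 := by rwa [Ne, map_eq_zero_iff ρ ρ.injective]
  have h3 : T (l⁻¹ • T v) = l • v := by
    rw [h.smul, h.sq, smul_smul, map_inv₀]
    congr 1
    field_simp
  refine ⟨1, -1, v + l⁻¹ • T v, v - l⁻¹ • T v, sg_one, sg_neg hF sg_one, ?_, ?_, ?_⟩
  · rw [h.add, h3, one_mul, smul_add, smul_smul, mul_inv_cancel₀ hl, one_smul, add_comm]
  · rw [h.sub, h3, neg_one_mul, neg_smul, smul_sub, smul_smul, mul_inv_cancel₀ hl, one_smul, neg_sub]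
  · have h4 := h.two
    funext i
    simp only [Pi.add_apply, Pi.sub_apply, Pi.smul_apply, smul_eq_mul]
    field_simp
    ring

/-- the action of `ρ` on the values of the form -/
theorem rho (h : Ng q T ρ l) {σ τ : F} (hτ : Sg q τ) {u v : Fin 4 → F} (hu : T u = (σ * l) • u)
    (hv : T v = (τ * l) • v) : ρ (hermForm 4 F q u v) = -(σ * τ) * hermForm 4 F q u v := by
  rw [← h.herm, hu, hv, herm_smul_left, herm_smul_right, mul_pow, hτ.2]
  linear_combination (σ * τ * hermForm 4 F q u v) * h.norm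

/-- the eigenvectors are isotropic -/
theorem iso (hF : Fintype.card F = q ^ 2) (h : Ng q T ρ l) {σ : F} (hσ : Sg q σ) {v : Fin 4 → F}
    (hv : T v = (σ * l) • v) : hermForm 4 F q v v = 0 := by
  have h1 := h.rho hσ hv hv
  rw [hσ.1, h.fix _ (herm_swap hF v v).symm] at h1
  have h2 : (2 : F) * hermForm 4 F q v v = 0 := by linear_combination h1
  exact (mul_eq_zero.1 h2).resolve_left h.two

theorem exists_ne (hF : Fintype.card F = q ^ 2) (h : Ng q T ρ l) {e : Fin 4 → F} (he : e ≠ 0) :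
    ∃ (τ : F) (y : Fin 4 → F), Sg q τ ∧ T y = (τ * l) • y ∧ hermForm 4 F q e y ≠ 0 := by
  by_contra hcon
  push Not at hcon
  apply he
  apply herm_nondeg hF
  intro v
  obtain ⟨σ, τ, x, y, hσ, hτ, hx, hy, rfl⟩ := h.comb hF v
  rw [herm_add_right hF, herm_smul_right, herm_smul_right, hcon σ x hσ hx, hcon τ y hτ hy, mul_zero, add_zero]

/-- normalisation -/
theorem norma (hF : Fintype.card F = q ^ 2) (h : Ng q T ρ l) {σ τ : F} (hσ : Sg q σ) (hτ : Sg q τ)
    {e y : Fin 4 → F} (he : T e = (σ * l) • e) (hy : T y = (τ * l) • y) (hey : hermForm 4 F q e y ≠ 0) :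
    T ((hermForm 4 F q e y ^ q)⁻¹ • y) = (-σ * l) • ((hermForm 4 F q e y ^ q)⁻¹ • y) ∧
      hermForm 4 F q e ((hermForm 4 F q e y ^ q)⁻¹ • y) = 1 := by
  have h1 := h.rho hτ he hy
  set a := hermForm 4 F q e y with ha
  have haq : a ^ q ≠ 0 := pow_ne_zero _ hey
  constructor
  · rw [h.smul, hy, map_inv₀, map_pow, h1, smul_smul, smul_smul]
    congr 1
    have h2 : (-(σ * τ) * a) ^ q = -(σ * τ) * a ^ q := by
      rw [mul_pow, neg_pow_q hF, mul_pow, hσ.2, hτ.2]
    have h3 : (-(σ * τ) * a ^ q)⁻¹ = -(σ * τ) * (a ^ q)⁻¹ := by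
      rw [mul_inv]
      congr 1
      apply inv_eq_of_mul_eq_one_left
      linear_combination (τ * τ) * hσ.1 + hτ.1
    rw [h2, h3]
    linear_combination (-(a ^ q)⁻¹ * σ * l) * hτ.1
  · rw [herm_smul_right, inv_pow, pow_q_pow_q hF, ← ha, inv_mul_cancel₀ hey]

/-- the projection -/
def pj (q : ℕ) (e f v : Fin 4 → F) : Fin 4 → F := v - hermForm 4 F q v f • e - hermForm 4 F q v e • f

theorem pj_spec (hF : Fintype.card F = q ^ 2) (h : Ng q T ρ l) {σ τ : F} (hσ : Sg q σ)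
    {e f v : Fin 4 → F} (he : T e = (σ * l) • e) (hf : T f = (-σ * l) • f) (hef : hermForm 4 F q e f = 1)
    (hv : T v = (τ * l) • v) :
    T (pj q e f v) = (τ * l) • pj q e f v ∧ hermForm 4 F q (pj q e f v) e = 0 ∧
      hermForm 4 F q (pj q e f v) f = 0 := by
  have h1 := h.rho (sg_neg hF hσ) hv hf
  have h2 := h.rho hσ hv he
  have hee := h.iso hF hσ he
  have hff := h.iso hF (sg_neg hF hσ) hf
  have hfe : hermForm 4 F q f e = 1 := by rw [herm_swap hF, hef, one_pow]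
  refine ⟨?_, ?_, ?_⟩
  · unfold pj
    rw [h.sub, h.sub, h.smul, h.smul, h1, h2, he, hf, hv]
    have e1 : (-(τ * -σ) * hermForm 4 F q v f) • (σ * l) • e = (τ * l) • (hermForm 4 F q v f • e) := by
      rw [smul_smul, smul_smul]
      congr 1
      linear_combination (τ * hermForm 4 F q v f * l) * hσ.1
    have e2 : (-(τ * σ) * hermForm 4 F q v e) • (-σ * l) • f = (τ * l) • (hermForm 4 F q v e • f) := by
      rw [smul_smul, smul_smul]
      congr 1
      linear_combination (τ * hermForm 4 F q v e * l) * hσ.1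
    rw [e1, e2, smul_sub, smul_sub]
  · unfold pj
    rw [herm_sub_left, herm_sub_left, herm_smul_left, herm_smul_left, hee, hfe]
    ring
  · unfold pj
    rw [herm_sub_left, herm_sub_left, herm_smul_left, herm_smul_left, hff, hef]
    ring

/-- **there is a hyperbolic frame of eigenvectors** -/
theorem exists_frame (hF : Fintype.card F = q ^ 2) (h : Ng q T ρ l) :
    ∃ (a b : Fin 2 → (Fin 4 → F)) (s : Fin 2 → F), Frm q a b ∧ (∀ i, Sg q (s i)) ∧
      (∀ i, T (a i) = (s i * l) • a i) ∧ ∀ i, T (b i) = (-s i * l) • b i := by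
  -- first pair
  obtain ⟨σ, e, hσ, he, he0⟩ : ∃ (σ : F) (e : Fin 4 → F), Sg q σ ∧ T e = (σ * l) • e ∧ e ≠ 0 := by
    by_contra hcon
    push Not at hcon
    obtain ⟨σ, τ, x, y, hσ, hτ, hx, hy, hxy⟩ := h.comb hF (Pi.single 0 1)
    rw [hcon σ x hσ hx, hcon τ y hτ hy, smul_zero, add_zero] at hxy
    have := congrFun hxy 0
    simp at this
  obtain ⟨τ, y, hτ, hy, hey⟩ := h.exists_ne hF he0
  obtain ⟨f, hf, hef⟩ : ∃ f : Fin 4 → F, T f = (-σ * l) • f ∧ hermForm 4 F q e f = 1 :=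
    ⟨_, h.norma hF hσ hτ he hy hey⟩
  have hee := h.iso hF hσ he
  have hff := h.iso hF (sg_neg hF hσ) hf
  -- second pair
  obtain ⟨σ', e', hσ', he', he'0, hee', hef'⟩ : ∃ (σ' : F) (e' : Fin 4 → F), Sg q σ' ∧ T e' = (σ' * l) • e' ∧ e' ≠ 0 ∧
      hermForm 4 F q e' e = 0 ∧ hermForm 4 F q e' f = 0 := by
    by_contra hcon
    push Not at hcon
    have hz : ∀ (τ : F) (v : Fin 4 → F), Sg q τ → T v = (τ * l) • v → pj q e f v = 0 := by
      intro τ v hτ hv
      by_contra h0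
      obtain ⟨p1, p2, p3⟩ := h.pj_spec hF hσ he hf hef hv
      exact hcon τ _ hτ p1 h0 p2 p3
    obtain ⟨v, hv⟩ := exists_not_comb (n := 4) (by norm_num) e f
    obtain ⟨σ₁, τ₁, x, y, hσ₁, hτ₁, hx, hy, hxy⟩ := h.comb hF v
    have hx' := hz σ₁ x hσ₁ hx
    have hy' := hz τ₁ y hτ₁ hy
    unfold pj at hx' hy'
    rw [sub_sub, sub_eq_zero] at hx' hy'
    apply hv ((2 : F)⁻¹ * hermForm 4 F q x f + (2 : F)⁻¹ * hermForm 4 F q y f)
      ((2 : F)⁻¹ * hermForm 4 F q x e + (2 : F)⁻¹ * hermForm 4 F q y e)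
    calc v = (2 : F)⁻¹ • x + (2 : F)⁻¹ • y := hxy
      _ = (2 : F)⁻¹ • (hermForm 4 F q x f • e + hermForm 4 F q x e • f) +
          (2 : F)⁻¹ • (hermForm 4 F q y f • e + hermForm 4 F q y e • f) := by rw [← hx', ← hy']
      _ = _ := by module
  obtain ⟨τ', y', hτ', hy', hey'⟩ := h.exists_ne hF he'0
  obtain ⟨p1, p2, p3⟩ := h.pj_spec hF hσ he hf hef hy'
  have hey'' : hermForm 4 F q e' (pj q e f y') ≠ 0 := by
    unfold pj
    rw [herm_sub_right hF, herm_sub_right hF, herm_smul_right, herm_smul_right, hee', hef']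
    simpa using hey'
  obtain ⟨f', hf', hef'', hf'e, hf'f⟩ : ∃ f' : Fin 4 → F, T f' = (-σ' * l) • f' ∧ hermForm 4 F q e' f' = 1 ∧
      hermForm 4 F q f' e = 0 ∧ hermForm 4 F q f' f = 0 := by
    obtain ⟨k1, k2⟩ := h.norma hF hσ' hτ' he' p1 hey''
    exact ⟨_, k1, k2, by rw [herm_smul_left, p2, mul_zero], by rw [herm_smul_left, p3, mul_zero]⟩
  have hee'' := h.iso hF hσ' he'
  have hff' := h.iso hF (sg_neg hF hσ') hf'
  refine ⟨![e, e'], ![f, f'], ![σ, σ'], ⟨fun i j => ?_, fun i j => ?_, fun i j => ?_⟩, fun i => ?_, fun i => ?_,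
    fun i => ?_⟩
  · fin_cases i <;> fin_cases j
    · exact hee
    · exact herm_eq_zero_swap hF hee'
    · exact hee'
    · exact hee''
  · fin_cases i <;> fin_cases j
    · exact hff
    · exact herm_eq_zero_swap hF hf'f
    · exact hf'f
    · exact hff'
  · fin_cases i <;> fin_cases j
    · exact hef
    · exact herm_eq_zero_swap hF hf'e
    · exact hef'
    · exact hef''
  · fin_cases i
    · exact hσ
    · exact hσ'
  · fin_cases i
    · exact he
    · exact he'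
  · fin_cases i
    · exact hf
    · exact hf'

end Ng

/-- **the skew case** -/
theorem false_neg (hF : Fintype.card F = q ^ 2) (h4 : 4 ≤ Nat.card F) {A : GU 4 F q} {ρ : F ≃+* F} {l : F}
    (h : Ng q (S A ρ) ρ l) (hRC : RC (toAut A ρ : MulAut (PSU 4 F q))) : False := by
  obtain ⟨a, b, s, hab, hs, ha, hb⟩ := h.exists_frame hF
  have hl := h.l_ne
  have h0 := false_of_frame hF h4 hab hRC ha hb
  have e1 : s 0 = s 1 := by
    have := h0 1
    rw [map_one, mul_one, mul_one] at this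
    exact mul_right_cancel₀ hl this
  have hs0 : s 1 ≠ 0 := fun h1 => by
    have := (hs 1).1
    rw [h1, zero_mul] at this
    exact zero_ne_one this
  have hab' := hab.swap hF
  have h1 := false_of_frame hF h4 hab' hRC (s := ![s 0 * l, -s 1 * l]) (s' := ![-s 0 * l, s 1 * l])
    (fun i => by
      fin_cases i
      · exact ha 0
      · exact hb 1)
    (fun i => by
      fin_cases i
      · exact hb 0
      · exact ha 1) 1
  rw [map_one, mul_one, mul_one] at h1
  have h2 : s 0 * l = -s 1 * l := h1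
  rw [e1] at h2
  have h3 : (2 : F) * (s 1 * l) = 0 := by linear_combination h2
  exact (mul_ne_zero h.two (mul_ne_zero hs0 hl)) h3

end Cfsg.Agent.H499.Rad2.U
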